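import Groth.Agent.TildeRelAmpLib.Main
import Groth.Agent.PerfPushLib.Main
import Groth.Agent.PerfModLib.Mor
import Groth.Agent.KRLib.Codim
import Groth.Agent.S15821
import Groth.Agent.DRingLib.AmplitudeTri

/-!
# Koszul immersions of codimension `d` have perfect dimension at most `d`
-/

set_option autoImplicit false
set_option linter.all false
set_option backward.isDefEq.respectTransparency false
set_option backward.isDefEq.respectTransparency.types false
set_option maxHeartbeats 1000000

universe u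

open CategoryTheory CategoryTheory.Limits AlgebraicGeometry HomologicalComplex
open Groth.Agent

attribute [local instance] HasDerivedCategory.standard

noncomputable section

namespace KoszDimLib

theorem amp_koszul {A : Type u} [CommRing A] : ∀ l : List A,
    DRing.HasTorAmplitudeIn A (-(l.length : ℤ)) 0 (DerivedCategory.Q.obj (Koszul.koszul A l)) := by
  intro l
  induction l with
  | nil =>
    refine ⟨Koszul.koszul A [], fun i hi => HomologicalComplex.isZero_single_obj_X (ComplexShape.up ℤ) 0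
      (ModuleCat.of A A) i (by simp at hi; omega), fun i => ?_, ⟨Iso.refl _⟩⟩
    by_cases h : i = 0
    · subst h
      exact Module.Flat.of_linearEquiv
        (HomologicalComplex.singleObjXSelf (ComplexShape.up ℤ) 0 (ModuleCat.of A A)).toLinearEquiv
    · have hz : IsZero ((Koszul.koszul A []).X i) :=
        HomologicalComplex.isZero_single_obj_X (ComplexShape.up ℤ) 0 (ModuleCat.of A A) i h
      haveI := DRingLib.free_of_isZero hz
      exact Module.Flat.of_free
  | cons f l ih =>
    refine DRingLib.hasTorAmplitudeIn_obj₃ (DerivedCategory.Q.mapTriangle.obj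
      (CochainComplex.mappingCone.triangle (f • 𝟙 (Koszul.koszul A l))))
      ((DerivedCategory.mem_distTriang_iff _).2 ⟨_, _, _, ⟨Iso.refl _⟩⟩)
      (DRingLib.hasTorAmplitudeIn_mono ?_ ?_ ih) (DRingLib.hasTorAmplitudeIn_mono ?_ le_rfl ih)
    all_goals first | omega | (simp only [List.length_cons]; omega)

theorem amp_quotient {A : Type u} [CommRing A] (l : List A) (hl : LCI.IsKoszulRegularSeq A l) :
    DRing.HasTorAmplitudeIn A (-(l.length : ℤ)) 0 (Dual.inD A (A ⧸ Ideal.ofList l)) := by
  let K := DerivedCategory.Q.obj (Koszul.koszul A l)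
  have hz : ∀ i, i ≠ 0 → IsZero ((DerivedCategory.homologyFunctor (ModuleCat.{u} A) i).obj K) := fun i hi =>
    (hl i hi).of_iso ((DerivedCategory.homologyFunctorFactors _ i).app _)
  haveI : K.IsGE 0 := (DerivedCategory.isGE_iff K 0).2 fun i hi => hz i (by omega)
  haveI : K.IsLE 0 := (DerivedCategory.isLE_iff K 0).2 fun i hi => hz i (by omega)
  obtain ⟨N, ⟨eN⟩⟩ := DerivedCategory.exists_iso_singleFunctor_obj_of_isGE_of_isLE K 0
  obtain ⟨h0⟩ : Nonempty ((Koszul.koszul A l).homology 0 ≅ ModuleCat.of A (A ⧸ Ideal.ofList l)) := by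
    have hH := Groth.Agent.S15821.homology_zero_iso l.get
    rw [List.ofFn_get, Set.range_list_get] at hH
    exact hH
  refine DRingLib.hasTorAmplitudeIn_of_iso ?_ (amp_koszul l)
  refine eN ≪≫ (DerivedCategory.singleFunctor _ 0).mapIso ?_
  exact ((DerivedCategory.singleFunctorCompHomologyFunctorIso (ModuleCat.{u} A) 0).app N).symm ≪≫
    (DerivedCategory.homologyFunctor _ 0).mapIso eN.symm ≪≫ (DerivedCategory.homologyFunctorFactors _ 0).app _ ≪≫ h0

theorem hasPerfDimLE {Z X : Scheme.{u}} (i : Z ⟶ X) (d : ℕ)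
    (hi : RegImm.IsRegularImmersionOfCodim RegImm.Kind.koszul d i) : DerSch.HasPerfDimLE i d := by
  haveI := hi.1
  have hreg : RegImm.IsRegularImmersion RegImm.Kind.koszul i := ⟨hi.1, fun z => by
    obtain ⟨U, hz, hcl, rs, -, hrs, hker⟩ := hi.2 z
    exact ⟨U, hz, hcl, rs, hrs, hker⟩⟩
  have hperf := PerfModLib.perfectMor_of_lciMor i (KoszAtLib.lciMor_of_regularImmersion i hreg)
  refine ⟨fun k => PerfPushLib.nPC_of_pseudoCoherentMor i (fun U V hU hV h => (hperf U V hU hV h).1) k,
    fun z => ?_⟩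
  obtain ⟨U, hz, hg, hn⟩ := ((KRLib.isRegularImmersionOfCodim_koszul_iff i d).1 hi).2 z
  obtain ⟨l, hlen, hl, hker⟩ := (KRLib.krGenN_iff _ _).1 hn
  have hW := hg.isAffine_pre
  obtain ⟨w, hw⟩ : ∃ w, hW.fromSpec w = z := by
    have : z ∈ Set.range hW.fromSpec := by rw [hW.range_fromSpec]; exact hz
    exact this
  subst hw
  refine (RelFlatLib.ampAt_restrict_iff i hW.fromSpec w _ _ _).1 ?_
  have hc : hW.fromSpec ≫ i = Spec.map (CommRingCat.ofHom (i.app U).hom) ≫ hg.isAffine.fromSpec := by
    rw [CommRingCat.ofHom_hom, Scheme.Hom.app_eq_appLE,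
      IsAffineOpen.SpecMap_appLE_fromSpec i hg.isAffine hW le_rfl]
  rw [hc, RelFlatLib.ampAt_target_iff]
  let B : CommRingCat.{u} := Γ(Z, i ⁻¹ᵁ U)
  let φ : Γ(X, U) →+* B := (i.app U).hom
  letI := φ.toAlgebra
  let M : ModuleCat.{u} B := ModuleCat.of B B
  have hring : DRing.HasTorAmplitudeIn Γ(X, U) (-(d : ℤ)) 0 (DerivedCategory.Q.obj
      ((TwoTermLib.RelAmp.resCx φ).obj ((single (ModuleCat.{u} B) (ComplexShape.up ℤ) 0).obj M))) := by
    subst hlen
    let q : (Γ(X, U) ⧸ RingHom.ker φ) ≃ₗ[Γ(X, U)] B :=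
      (Ideal.quotientKerAlgEquivOfSurjective (f := Algebra.ofId Γ(X, U) B) hg.surjective).toLinearEquiv
    refine DRingLib.hasTorAmplitudeIn_of_iso ?_ (amp_quotient l hl)
    exact (DerivedCategory.singleFunctor _ 0).mapIso
        ((Submodule.quotEquivOfEq _ _ hker.symm).trans q).toModuleIso ≪≫
      (DerivedCategory.singleFunctorIsoCompQ _ 0).app _ ≪≫
      DerivedCategory.Q.mapIso ((single _ _ 0).mapIso (X := ModuleCat.of Γ(X, U) B)
        (Y := (ModuleCat.restrictScalars φ).obj M) (Iso.refl _) ≪≫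
          ((singleMapHomologicalComplex (ModuleCat.restrictScalars φ) (ComplexShape.up ℤ) 0).app M).symm)
  refine RelFlatLib.ampAt_of_iso _ (DerivedCategory.Q.mapIso ?_)
    ((TildeRelAmpLib.tilde_amp_iff φ ((single (ModuleCat.{u} B) (ComplexShape.up ℤ) 0).obj M) _ _).2 hring w)
  exact (singleMapHomologicalComplex (tilde.functor B) (ComplexShape.up ℤ) 0).app M ≪≫
    (single _ _ 0).mapIso (tildeSelf ≪≫ (Scheme.Modules.restrictUnitIso hW.fromSpec).symm) ≪≫
    ((singleMapHomologicalComplex (PerfLib.res hW.fromSpec) (ComplexShape.up ℤ) 0).app (Coh.structureModule Z)).symm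

end KoszDimLib
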